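import Cfsg.Agent.Lib.StarO.Trace
import Cfsg.Agent.Lib.BlockH.ConjPair

/-!
# Block idempotents of centralizers as elements of `ℂ[G]`

`eb Q c`: the idempotent of the block `c` of `C_G(Q)`, viewed in `ℂ[G]`, without any instance.
`blocksE M Q`: the finite set of these idempotents.
-/

set_option linter.unusedSectionVars false
set_option linter.style.haveILetI false
set_option autoImplicit false

namespace Cfsg.Agent.Lib.StarO.BlockE

open Cfsg MonoidAlgebra
open Cfsg.Agent.Lib.Blocks.Local Cfsg.Agent.Lib.Blocks.Central Cfsg.Agent.Lib.Blocks.Brauer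
open Cfsg.Agent.Lib.Blocks.Weak Cfsg.Agent.Lib.StarO.Spectral Cfsg.Agent.Lib.StarO.Corner
open Cfsg.Agent.Lib.StarO.Trace Cfsg.Agent.Lib.Blocks.Induced
open Cfsg.Agent.Lib.BlockH.BrauerMap Cfsg.Agent.Lib.BlockH.Subpair Cfsg.Agent.Lib.BlockH.SubpairLE
open Cfsg.Agent.Lib.BlockH.Transport Cfsg.Agent.Lib.BlockH.ConjPair

universe u

variable {G : Type u} [Group G] [Fintype G] {M : Ideal AlgInt} {p : ℕ}

local notation "Cz[" Q "]" => Subgroup.centralizer ((Q : Subgroup G) : Set G)

/-- The idempotent of a set of irreducible characters of `C_G(Q)`, viewed in `ℂ[G]`. -/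
noncomputable def eb (Q : Subgroup G) (c : Set (IrrCharacter (Subgroup.centralizer (Q : Set G)))) :
    GA G := ofFun (subgroupBlockCoeff (Subgroup.centralizer (Q : Set G)) c)

theorem coeff_eb (Q : Subgroup G) (c : Set (IrrCharacter (Subgroup.centralizer (Q : Set G)))) (g : G) :
    (eb Q c).coeff g = subgroupBlockCoeff (Subgroup.centralizer (Q : Set G)) c g := rfl

theorem eb_eq_subIdem (Q : Subgroup G) [Fintype (Subgroup.centralizer (Q : Set G))]
    [Fintype (IrrCharacter (Subgroup.centralizer (Q : Set G)))]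
    (c : Set (IrrCharacter (Subgroup.centralizer (Q : Set G)))) :
    eb Q c = subIdem (Subgroup.centralizer (Q : Set G)) c := by
  ext g
  rw [coeff_eb, coeff_subIdem]

/-- The instances on a centralizer. -/
theorem coeff_eb_of_notMem (Q : Subgroup G)
    (c : Set (IrrCharacter (Subgroup.centralizer (Q : Set G)))) {g : G}
    (hg : g ∉ Subgroup.centralizer (Q : Set G)) : (eb Q c).coeff g = 0 := by
  classical
  rw [coeff_eb]
  unfold subgroupBlockCoeff
  rw [dif_neg hg]

theorem eb_mul_self (Q : Subgroup G) (c : Set (IrrCharacter (Subgroup.centralizer (Q : Set G)))) :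
    eb Q c * eb Q c = eb Q c := by
  classical
  letI : Fintype (Subgroup.centralizer (Q : Set G)) := Fintype.ofFinite _
  haveI := Cfsg.Agent.Lib.Char.Ortho.finite_irrCharacter (G := Subgroup.centralizer (Q : Set G))
  letI : Fintype (IrrCharacter (Subgroup.centralizer (Q : Set G))) := Fintype.ofFinite _
  rw [eb_eq_subIdem]
  exact subIdem_mul_self _ _

variable [hMp : M.IsPrime]

theorem eb_mul_of_ne {Q : Subgroup G} {c c' : Set (IrrCharacter (Subgroup.centralizer (Q : Set G)))}
    (hc : IsPBlock M c) (hc' : IsPBlock M c') (hne : c ≠ c') : eb Q c * eb Q c' = 0 := by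
  classical
  letI : Fintype (Subgroup.centralizer (Q : Set G)) := Fintype.ofFinite _
  haveI := Cfsg.Agent.Lib.Char.Ortho.finite_irrCharacter (G := Subgroup.centralizer (Q : Set G))
  letI : Fintype (IrrCharacter (Subgroup.centralizer (Q : Set G))) := Fintype.ofFinite _
  rw [eb_eq_subIdem, eb_eq_subIdem]
  exact subIdem_mul_of_ne _ hc hc' hne

theorem rc_eb {Q : Subgroup G} {c : Set (IrrCharacter (Subgroup.centralizer (Q : Set G)))}
    (hc : IsPBlock M c) : Rc M (eb Q c) := by
  classical
  letI : Fintype (Subgroup.centralizer (Q : Set G)) := Fintype.ofFinite _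
  haveI := Cfsg.Agent.Lib.Char.Ortho.finite_irrCharacter (G := Subgroup.centralizer (Q : Set G))
  letI : Fintype (IrrCharacter (Subgroup.centralizer (Q : Set G))) := Fintype.ofFinite _
  rw [eb_eq_subIdem]
  exact rc_subIdem _ hc

/-- Invariance under subgroups of the centralizer. -/
theorem qinv_eb_of_le {Q C : Subgroup G} (hC : C ≤ Subgroup.centralizer (Q : Set G))
    (c : Set (IrrCharacter (Subgroup.centralizer (Q : Set G)))) : QInv C (eb Q c) := by
  classical
  letI : Fintype (Subgroup.centralizer (Q : Set G)) := Fintype.ofFinite _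
  haveI := Cfsg.Agent.Lib.Char.Ortho.finite_irrCharacter (G := Subgroup.centralizer (Q : Set G))
  letI : Fintype (IrrCharacter (Subgroup.centralizer (Q : Set G))) := Fintype.ofFinite _
  rw [eb_eq_subIdem]
  exact qinv_subIdem _ c hC

/-- Elements of `Q` act trivially on the centralizer and preserve its complement. -/
theorem qinv_self_of_support {Q : Subgroup G} {x : GA G}
    (h : ∀ g, g ∉ Subgroup.centralizer (Q : Set G) → x.coeff g = 0) : QInv Q x := by
  intro q hq g
  by_cases hg : g ∈ Subgroup.centralizer (Q : Set G)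
  · have : q * g * q⁻¹ = g := by
      rw [Subgroup.mem_centralizer_iff.mp hg q hq]
      group
    rw [this]
  · have hg' : q * g * q⁻¹ ∉ Subgroup.centralizer (Q : Set G) := by
      intro h1
      apply hg
      rw [Subgroup.mem_centralizer_iff] at h1 ⊢
      intro y hy
      have h2 := h1 (q * y * q⁻¹) (Q.mul_mem (Q.mul_mem hq hy) (Q.inv_mem hq))
      have h3 : (q * y * q⁻¹) * (q * g * q⁻¹) = q * (y * g) * q⁻¹ := by group
      have h4 : (q * g * q⁻¹) * (q * y * q⁻¹) = q * (g * y) * q⁻¹ := by group
      rw [h3, h4] at h2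
      exact mul_left_cancel (mul_right_cancel h2)
    rw [h g hg, h _ hg']

theorem qinv_eb_self (Q : Subgroup G) (c : Set (IrrCharacter (Subgroup.centralizer (Q : Set G)))) :
    QInv Q (eb Q c) :=
  qinv_self_of_support fun _ hg => coeff_eb_of_notMem Q c hg

theorem inA_eb_self {Q : Subgroup G} {c : Set (IrrCharacter (Subgroup.centralizer (Q : Set G)))}
    (hc : IsPBlock M c) : InA M Q (eb Q c) := ⟨rc_eb hc, qinv_eb_self Q c⟩

/-- Invariance under elements stabilizing the block. -/
theorem qinv_eb_of_stable {Q R : Subgroup G} {c : Set (IrrCharacter (Subgroup.centralizer (Q : Set G)))}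
    (hc : IsPBlock M c) (hst : ∀ u ∈ R, StabilizesBlock (Subgroup.centralizer (Q : Set G)) c u) :
    QInv R (eb Q c) := by
  classical
  letI : Fintype (Subgroup.centralizer (Q : Set G)) := Fintype.ofFinite _
  haveI := Cfsg.Agent.Lib.Char.Ortho.finite_irrCharacter (G := Subgroup.centralizer (Q : Set G))
  letI : Fintype (IrrCharacter (Subgroup.centralizer (Q : Set G))) := Fintype.ofFinite _
  rw [eb_eq_subIdem]
  exact qinv_subIdem_of_stable _ hc hst

/-- Truncations to `C_G(Q)` and the block idempotents commute under the Brauer map. -/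
theorem brCentral_eb (hM : IsPModular p M) {Q : Subgroup G} (hQ : IsPGroup p Q)
    {c : Set (IrrCharacter (Subgroup.centralizer (Q : Set G)))} (hc : IsPBlock M c) :
    BrCentral M Q (eb Q c) := by
  classical
  letI : Fintype (Subgroup.centralizer (Q : Set G)) := Fintype.ofFinite _
  haveI := Cfsg.Agent.Lib.Char.Ortho.finite_irrCharacter (G := Subgroup.centralizer (Q : Set G))
  letI : Fintype (IrrCharacter (Subgroup.centralizer (Q : Set G))) := Fintype.ofFinite _
  intro x hx g hg
  have he := inA_eb_self (Q := Q) hc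
  have h1 := res_mul_sub_mem hM hQ he.inv hx.inv he.rc hx.rc g
  have h2 := res_mul_sub_mem hM hQ hx.inv he.inv hx.rc he.rc g
  have hr : res ((Subgroup.centralizer (Q : Set G) : Subgroup G) : Set G) (eb Q c) = eb Q c := by
    ext k
    by_cases hk : k ∈ Subgroup.centralizer (Q : Set G)
    · rw [coeff_res_of_mem _ hk]
    · rw [coeff_res_of_notMem _ hk, coeff_eb_of_notMem Q c hk]
  -- the commutation in `ℂ[C]`
  have hcomm : eb Q c * res ((Subgroup.centralizer (Q : Set G) : Subgroup G) : Set G) x =
      res ((Subgroup.centralizer (Q : Set G) : Subgroup G) : Set G) x * eb Q c := by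
    rw [res_eq_incl_restr, eb_eq_subIdem, subIdem, ← incl_mul, ← incl_mul,
      ((isCentral_iff_comm (idem c : GA (Subgroup.centralizer (Q : Set G)))).mp (isCentral_of_mem _) _)]
  rw [hr] at h1 h2
  rw [hcomm] at h1
  have h3 := memLocalIdeal_sub h1 h2
  simp only [coeff_sub', coeff_res_of_mem _ hg] at h3 ⊢
  convert h3 using 1
  ring

/-! ### The Brauer images of elements on a block -/

/-- An element idempotent under the Brauer map has idempotent truncation modulo the ideal. -/
theorem jc_restr_of_BE (hM : IsPModular p M) {R : Subgroup G} (hR : IsPGroup p R)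
    [Fintype Cz[R]] {x : GA G}
    (hxA : InA M R x) (hxx : BE M R (x * x) x) :
    Jc M (restr Cz[R] x * restr Cz[R] x - restr Cz[R] x) := by
  have h1 := res_mul_sub_mem hM hR hxA.inv hxA.inv hxA.rc hxA.rc
  intro k
  have h2 := h1 (k : G)
  rw [coeff_sub', coeff_res_of_mem _ k.2] at h2
  have h3 := hxx k k.2
  rw [coeff_sub'] at h3
  have h4 := memLocalIdeal_sub h3 h2
  have h5 : (restr Cz[R] x * restr Cz[R] x).coeff k =
      (res (Cz[R] : Set G) x * res (Cz[R] : Set G) x).coeff (k : G) := by
    have := restr_res_mul_res Cz[R] x x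
    rw [← this, coeff_restr]
  rw [coeff_sub', h5, coeff_restr]
  convert h4 using 1
  ring

/-- A central element, integral at the prime, all of whose central characters lie in the local
ideal and which is idempotent modulo the ideal, has coefficients in the ideal. -/
theorem jc_of_central_idem {H : Type u} [Group H] [Fintype H] [Fintype (IrrCharacter H)]
    {y : Subalgebra.center ℂ (GA H)} (hyl : y ∈ localCenter M H)
    (hyω : ∀ ξ : IrrCharacter H, MemLocalIdeal M (omegaHom ξ y))
    (hyy : Jc M ((y : GA H) * (y : GA H) - (y : GA H))) : Jc M (y : GA H) := by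
  obtain ⟨n, hn⟩ := exists_pow_Jc hyl hyω
  have hylR : Rc M (y : GA H) := hyl
  have hpow : ∀ m : ℕ, Jc M ((y : GA H) ^ (m + 1) - (y : GA H)) := by
    intro m
    induction m with
    | zero => simpa using Jc.zero
    | succ m ih =>
      have e : (y : GA H) ^ (m + 1 + 1) - (y : GA H) =
          ((y : GA H) ^ (m + 1) - (y : GA H)) * (y : GA H) +
            ((y : GA H) * (y : GA H) - (y : GA H)) := by
        rw [pow_succ _ (m + 1)]
        noncomm_ring
      rw [e]
      exact (ih.mul_Rc hylR).add hyy
  have h1 := hpow n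
  rw [pow_succ] at h1
  have h2 := hn.mul_Rc hylR
  have := h2.sub h1
  simpa using this

/-- Idempotence modulo the ideal passes to the product with a central idempotent. -/
theorem jc_mul_idem_sub {H : Type u} [Group H] [Fintype H] {a e : GA H} (hc : Commute a e)
    (hee : e * e = e) (he : Rc M e) (h : Jc M (a * a - a)) :
    Jc M ((a * e) * (a * e) - a * e) := by
  have e1 : (a * e) * (a * e) - a * e = (a * a - a) * e := by
    calc (a * e) * (a * e) - a * e = a * (e * a) * e - a * e := by noncomm_ring
      _ = a * (a * e) * e - a * e := by rw [hc.eq]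
      _ = a * a * (e * e) - a * e := by noncomm_ring
      _ = _ := by rw [hee, sub_mul]
  rw [e1]
  exact h.mul_Rc he

/-- If `x` is invariant under `C_G(R)`, idempotent under the Brauer map at `R` and has central
character values in the local ideal on the block `d`, then `x * e_d` vanishes under the Brauer
map. -/
theorem be_mul_eb_zero (hM : IsPModular p M) {R : Subgroup G} (hR : IsPGroup p R)
    [Fintype Cz[R]] [Fintype (IrrCharacter Cz[R])] {x : GA G}
    (hxA : InA M R x) (hxC : QInv Cz[R] x) (hxx : BE M R (x * x) x)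
    {d : Set (IrrCharacter Cz[R])} (hd : IsPBlock M d)
    (hv : ∀ ξ ∈ d, MemLocalIdeal M (brH R ξ x)) :
    BE M R (x * eb R d) 0 := by
  classical
  have hyl : restrC Cz[R] hxC * idem d ∈ localCenter M Cz[R] :=
    Subring.mul_mem _ (restrC_mem_localCenter _ hxC hxA.rc) (idem_mem_localCenter hd)
  have hyω : ∀ ξ : IrrCharacter Cz[R], MemLocalIdeal M (omegaHom ξ (restrC Cz[R] hxC * idem d)) := by
    intro ξ
    rw [map_mul, omegaHom_idem]
    split_ifs with hξ
    · rw [mul_one]
      exact hv ξ hξ
    · rw [mul_zero]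
      exact memLocalIdeal_zero
  have hcd : Commute (restr Cz[R] x) (idem d : GA Cz[R]) :=
    (isCentral_iff_comm (idem d : GA Cz[R])).mp (isCentral_of_mem _) _
  have hJ : Jc M (restr Cz[R] x * (idem d : GA Cz[R])) :=
    jc_of_central_idem (y := restrC Cz[R] hxC * idem d) hyl hyω
      (jc_mul_idem_sub hcd (congrArg Subtype.val (idem_mul_self d)) (idem_mem_localCenter hd)
        (jc_restr_of_BE hM hR hxA hxx))
  -- back to `G`
  intro g hg
  have h1 := res_mul_sub_mem hM hR hxA.inv (inA_eb_self hd).inv hxA.rc (inA_eb_self hd).rc g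
  rw [coeff_sub', coeff_res_of_mem _ hg] at h1
  have h4 : restr Cz[R] (eb R d) = (idem d : GA Cz[R]) := by
    ext k
    rw [coeff_restr, coeff_eb, coeff_idem]
    unfold subgroupBlockCoeff
    rw [dif_pos k.2]
  have h3 := restr_res_mul_res Cz[R] x (eb R d)
  rw [h4] at h3
  have h2 : (res (Cz[R] : Set G) x * res (Cz[R] : Set G) (eb R d)).coeff g =
      (restr Cz[R] x * (idem d : GA Cz[R])).coeff ⟨g, hg⟩ := by
    rw [← h3, coeff_restr]
  rw [h2] at h1
  have h5 := memLocalIdeal_add h1 (hJ ⟨g, hg⟩)
  simp only [coeff_sub', coeff_zero, Pi.zero_apply, sub_zero] at h5 ⊢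
  convert h5 using 1
  ring

/-- The dual statement: the value `1`. -/
theorem be_mul_eb_self (hM : IsPModular p M) {R : Subgroup G} (hR : IsPGroup p R)
    [Fintype Cz[R]] [Fintype (IrrCharacter Cz[R])] {x : GA G}
    (hxA : InA M R x) (hxC : QInv Cz[R] x) (hxx : BE M R (x * x) x)
    {d : Set (IrrCharacter Cz[R])} (hd : IsPBlock M d)
    (hv : ∀ ξ ∈ d, MemLocalIdeal M (brH R ξ x - 1)) :
    BE M R (x * eb R d) (eb R d) := by
  have h1 : BE M R ((1 - x) * eb R d) 0 := by
    refine be_mul_eb_zero hM hR (InA.one.sub hxA) (Spectral.QInv.sub' QInv.one' hxC) ?_ hd ?_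
    · have e : (1 - x) * (1 - x) = 1 - x - (x - x * x) := by noncomm_ring
      rw [e]
      intro g hg
      have := hxx g hg
      simp only [coeff_sub'] at this ⊢
      convert this using 1
      ring
    · intro ξ hξ
      rw [brH_sub, brH_one]
      have := memLocalIdeal_neg (hv ξ hξ)
      convert this using 1
      ring
  intro g hg
  have h2 := memLocalIdeal_neg (h1 g hg)
  simp only [sub_mul, one_mul, coeff_sub', coeff_zero, Pi.zero_apply, sub_zero] at h2 ⊢
  convert h2 using 1
  ring

end Cfsg.Agent.Lib.StarO.BlockE
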